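import Cfsg.Agent.Spor.LyUD.S.D0

set_option autoImplicit false
set_option maxRecDepth 100000000
set_option Elab.async false

namespace Cfsg.Agent.Spor.LyUD.S

theorem gr3 : sub (ones 15400) (U.growI W1 [0, 1, 3, 4, 5, 5, 3, 2, 1, 0, 2, 3, 4, 5, 5, 3, 2, 1, 0, 2, 3, 4, 5, 5, 3, 2, 1] (Nat.shiftLeft 1 0)) = true := by decide +kernel

theorem cl5 : band (U.closedW W1 (ones 15400)) (sub (Nat.shiftLeft 1 0) (ones 15400)) = true := by decide +kernel

theorem sz6 : sizeOk 14 (ones 15400) 15400 = true := by decide +kernel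

theorem fx9 : U.closedW W8 (Nat.shiftLeft 1 0) = true := by decide +kernel

theorem gr11 : sub M10 (U.growI W8 [1, 2, 3, 4, 6, 6, 4, 3, 2, 1, 1, 2] (Nat.shiftLeft 1 3)) = true := by decide +kernel

theorem sd13 : U.sends [7] 0 3 = true := by decide +kernel

theorem gr14 : sub (ones 15400) (U.growI ([7] :: W8) [0, 2, 3, 4, 5, 7, 7, 5, 4, 3, 2, 0, 2, 3, 4, 5, 6, 7, 7, 6, 5, 4, 3, 2, 0, 2, 3, 4, 5, 6, 7, 7, 5] (Nat.shiftLeft 1 0)) = true := by decide +kernel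

theorem gr17 : sub M16 (U.growI W8 [2, 3, 4, 5, 6, 6, 4, 3, 2, 1, 1, 2, 3, 4, 6, 6] (Nat.shiftLeft 1 1)) = true := by decide +kernel

theorem sd19 : U.sends [1] 0 1 = true := by decide +kernel

theorem gr20 : sub (ones 15400) (U.growI ([1] :: W8) [0, 3, 4, 5, 6, 7, 7, 5, 4, 3, 2, 0, 2, 3, 4, 5, 6, 7, 7, 6, 5, 4, 3, 2] (Nat.shiftLeft 1 0)) = true := by decide +kernel

theorem gr23 : sub M22 (U.growI W8 [1, 2, 3, 4, 5, 6, 6, 5, 4, 3, 2, 1, 1, 2, 3, 4, 6, 6, 4] (Nat.shiftLeft 1 26)) = true := by decide +kernel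

theorem sd25 : U.sends [11] 0 26 = true := by decide +kernel

theorem gr26 : sub (ones 15400) (U.growI ([11] :: W8) [0, 2, 3, 4, 5, 6, 7, 7, 6, 5, 4, 3, 2, 0, 0, 2, 3, 4, 5, 6, 7, 7, 6, 5, 4, 3, 2, 0] (Nat.shiftLeft 1 0)) = true := by decide +kernel

theorem gr29 : sub M28 (U.growI W8 [1, 2, 3, 4, 5, 6, 6, 5, 4, 3, 2, 1, 1, 2, 3, 4, 6, 6, 4, 3, 2] (Nat.shiftLeft 1 4)) = true := by decide +kernel

theorem sd31 : U.sends [9] 0 4 = true := by decide +kernel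

theorem gr32 : sub (ones 15400) (U.growI ([9] :: W8) [0, 2, 3, 4, 5, 6, 7, 7, 6, 5, 4, 3, 2, 0, 2, 3, 4, 5, 6, 7, 7, 5] (Nat.shiftLeft 1 0)) = true := by decide +kernel

theorem sd34 : U.sends [11, 1] 0 9 = true := by decide +kernel

theorem gr36 : sub M35 (U.growI W8 [1, 2, 3, 6, 6, 4, 3, 2, 1, 1, 2] (Nat.shiftLeft 1 9)) = true := by decide +kernel

theorem cl38 : band (U.closedW W8 M35) (sub (Nat.shiftLeft 1 9) M35) = true := by decide +kernel

theorem sz39 : sizeOk 14 M35 90 = true := by decide +kernel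

theorem fx42 : U.closedW W41 (Nat.shiftLeft 1 0) = true := by decide +kernel

theorem fx43 : U.closedW W41 (Nat.shiftLeft 1 9) = true := by decide +kernel

end Cfsg.Agent.Spor.LyUD.S
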