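import Cfsg.Agent.Spor.Prim
import Cfsg.Agent.Spor.LyUD.Main
import Cfsg.Agent.Spor.LyUD.S.C0
import Cfsg.Agent.Spor.DE3
import Cfsg.Agent.Spor.LyUY.D0

set_option autoImplicit false
set_option maxRecDepth 100000000
set_option Elab.async false

namespace Cfsg.Agent.Spor.LyUD.S

theorem hU : U.Ok 14 := U.ok_of 14 (show AllP (fun n => Net.okb 14 n = true) [n0, n1, n2, n3, n4, n5, n6] from AllP.cons ok0 (AllP.cons ok1 (AllP.cons ok2 (AllP.cons ok3 (AllP.cons ok4 (AllP.cons ok5 (AllP.cons ok6 (AllP.nil))))))))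

theorem hfP : ∀ j < 7, U.fP [1, 3, 5, 7, 9, 11, 13] j = fP j := by
  intro j hj
  interval_cases j <;> rfl
theorem eG : gsub 7 fP = U.lsub W1 := (gsub_congr hfP).symm.trans (lsub_eq_gsub U [1, 3, 5, 7, 9, 11, 13])
theorem upz1 : ev (atm 7 fP) [0] = U.τ 1 := pz1
theorem upz3 : ev (atm 7 fP) [2] = U.τ 3 := pz2
theorem upz5 : ev (atm 7 fP) [4] = U.τ 5 := pz3
theorem upz7 : ev (atm 7 fP) [6] = U.τ 7 := pz4
theorem upz9 : ev (atm 7 fP) [8] = U.τ 9 := pz5
theorem upz11 : ev (atm 7 fP) [10] = U.τ 11 := pz6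
theorem upz13 : ev (atm 7 fP) [12] = U.τ 13 := pz7
theorem eH : wsub 7 fP BW = U.lsub W2 :=
  lsub_eq_of_all₂ (show List.Forall₂ _ [] [] from List.Forall₂.nil)
theorem reach4 : Reach (U.lsub W1) 0 (ones 15400) := (Reach.grow hU (Reach.base _ 0) gr3)
theorem orb7 : (orbS (U.lsub W1) 0).ncard = 15400 := reach4.ncard hU cl5 sz6
theorem orb7e : orbS (U.lsub W1) 0 = {c | Nat.testBit (ones 15400) c = true} := reach4.orb hU cl5
theorem reach12 : Reach (U.lsub W8) 3 M10 := (Reach.grow hU (Reach.base _ 3) gr11)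
theorem reach15 : Reach (U.lsub ([7] :: W8)) 0 (ones 15400) := (Reach.grow hU (Reach.base _ 0) gr14)
theorem reach18 : Reach (U.lsub W8) 1 M16 := (Reach.grow hU (Reach.base _ 1) gr17)
theorem reach21 : Reach (U.lsub ([1] :: W8)) 0 (ones 15400) := (Reach.grow hU (Reach.base _ 0) gr20)
theorem reach24 : Reach (U.lsub W8) 26 M22 := (Reach.grow hU (Reach.base _ 26) gr23)
theorem reach27 : Reach (U.lsub ([11] :: W8)) 0 (ones 15400) := (Reach.grow hU (Reach.base _ 0) gr26)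
theorem reach30 : Reach (U.lsub W8) 4 M28 := (Reach.grow hU (Reach.base _ 4) gr29)
theorem reach33 : Reach (U.lsub ([9] :: W8)) 0 (ones 15400) := (Reach.grow hU (Reach.base _ 0) gr32)
noncomputable def X : List SubO := [([7], 3, M10), ([1], 1, M16), ([11], 26, M22), ([9], 4, M28)]
theorem hX : AllP (SubOk U W8 W1) X :=
  show AllP (SubOk U W8 W1) [([7], 3, M10), ([1], 1, M16), ([11], 26, M22), ([9], 4, M28)] from AllP.cons ⟨U.mem_letters (by decide), (hU.sends sd13), reach12⟩ (AllP.cons ⟨U.mem_letters (by decide), (hU.sends sd19), reach18⟩ (AllP.cons ⟨U.mem_letters (by decide), (hU.sends sd25), reach24⟩ (AllP.cons ⟨U.mem_letters (by decide), (hU.sends sd31), reach30⟩ (AllP.nil))))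
theorem hXc : subCov 15400 X = true := by decide +kernel
theorem hY : AllP (fun x : SubO => Reach (U.lsub (x.1 :: W8)) 0 (ones 15400)) X :=
  show AllP (fun x : SubO => Reach (U.lsub (x.1 :: W8)) 0 (ones 15400)) [([7], 3, M10), ([1], 1, M16), ([11], 26, M22), ([9], 4, M28)] from AllP.cons reach15 (AllP.cons reach21 (AllP.cons reach27 (AllP.cons reach33 (AllP.nil))))
theorem reach37 : Reach (U.lsub W8) 9 M35 := (Reach.grow hU (Reach.base _ 9) gr36)
theorem orb40 : (orbS (U.lsub W8) 9).ncard = 90 := reach37.ncard hU cl38 sz39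
theorem orb40e : orbS (U.lsub W8) 9 = {c | Nat.testBit M35 c = true} := reach37.orb hU cl38
section
variable {Γ : Type} [Group Γ] {p : ℕ → Γ} {φ : Γ →* Equiv.Perm ℕ} (hφ : ∀ j < 7, φ (p j) = fP j)
include hφ
theorem link : U.Link φ (atm 7 p) (2 * 7) :=
  Tab.Link.of (fun j hj => (hφ j hj).trans (by interval_cases j <;> rfl)) (by decide +kernel)
theorem eL : (wsub 7 p LyUY.LW).map φ = U.lsub W8 := ((link hφ).lsub_le (by decide +kernel)).symm
theorem act [Finite Γ] (ht : gsub 7 p = ⊤) {s : ℕ} (hs : s ∣ Nat.card (wsub 7 p LyUY.LW)) (hc : Nat.card Γ = 15400 * s) :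
    CosetAct (wsub 7 p LyUY.LW) φ 15400 :=
  CosetAct.of_count ((link hφ).fix hU (W := W8) (by decide +kernel) (hU.fixes fx9))
    (by rw [range_eq_gsub hφ ht, eG]; exact orb7e) hs hc
theorem coatom (ht : gsub 7 p = ⊤) (h : CosetAct (wsub 7 p LyUY.LW) φ 15400) : IsCoatom (wsub 7 p LyUY.LW) :=
  h.coatom (by norm_num) (eL hφ) ((range_eq_gsub hφ ht).trans eG) hX hXc hY
theorem orb3 : (orbS ((wsub 7 p LyUY.LW).map φ) 9).ncard = 90 := by rw [eL hφ]; exact orb40
theorem fix0 : ∀ x ∈ wsub 7 p LyUY.SBW, φ x 0 = 0 := (link hφ).fix hU (W := W41) (by decide +kernel) (hU.fixes fx42)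
theorem fix3 : ∀ x ∈ wsub 7 p LyUY.SBW, φ x 9 = 9 := (link hφ).fix hU (W := W41) (by decide +kernel) (hU.fixes fx43)
theorem send : φ (ev (atm 7 p) [0, 10]) 0 = 9 := by
  rw [(link hφ).ev (by decide), ← evA_toL]; exact (hU.sends sd34)
end

end Cfsg.Agent.Spor.LyUD.S
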